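import Groth.Agent.FlatMisc.ValuationFP
import Mathlib

/-!
# Étale extensions of valuation rings composed from étale extensions
-/

set_option autoImplicit false
set_option linter.style.haveILetI false

universe u

open IsLocalRing TensorProduct

namespace Groth.Agent.ValCompose

variable {A B : Type u} [CommRing A] [IsDomain A] [ValuationRing A] [CommRing B] [IsDomain B]
  [ValuationRing B] [Algebra A B] (P : Ideal B) [P.IsPrime]

/-- Elements outside `P` divide elements of the base outside the trace of `P`. -/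
theorem exists_dvd_algebraMap [Algebra.IsAlgebraic A B] (hinj : Function.Injective (algebraMap A B))
    {s : B} (hs : s ∉ P) : ∃ N : A, N ∉ P.comap (algebraMap A B) ∧ s ∣ algebraMap A B N := by
  classical
  obtain ⟨R, hR0, hR⟩ := Algebra.IsAlgebraic.isAlgebraic (R := A) s
  have hdiv : ∀ S : Finset ℕ, S.Nonempty → ∃ i ∈ S, ∀ j ∈ S, R.coeff i ∣ R.coeff j := by
    intro S hS
    induction hS using Finset.Nonempty.cons_induction with
    | singleton a => exact ⟨a, by simp⟩
    | cons a S ha hS ih =>
      obtain ⟨i, hi, hij⟩ := ih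
      rcases ValuationRing.dvd_total (R.coeff a) (R.coeff i) with h | h
      · exact ⟨a, Finset.mem_cons_self _ _, fun j hj => (Finset.mem_cons.mp hj).elim (fun e => e ▸ dvd_rfl)
          fun hj => h.trans (hij j hj)⟩
      · exact ⟨i, Finset.mem_cons.mpr (.inr hi), fun j hj => (Finset.mem_cons.mp hj).elim (fun e => e ▸ h)
          fun hj => hij j hj⟩
  obtain ⟨i, hi, hall⟩ := hdiv R.support (Polynomial.support_nonempty.mpr hR0)
  have hC : Polynomial.C (R.coeff i) ∣ R := (Polynomial.C_dvd_iff_dvd_coeff _ _).mpr fun j => by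
    by_cases hj : j ∈ R.support
    · exact hall j hj
    · rw [Polynomial.notMem_support_iff.mp hj]; exact dvd_zero _
  obtain ⟨R', hR'⟩ := hC
  have hci : R.coeff i ≠ 0 := Polynomial.mem_support_iff.mp hi
  have hR'i : R'.coeff i = 1 := by
    have h := congrArg (fun q => Polynomial.coeff q i) hR'
    simp only [Polynomial.coeff_C_mul] at h
    exact mul_left_cancel₀ hci (by rw [← h, mul_one])
  have hR's : Polynomial.aeval s R' = 0 := by
    rw [hR', map_mul, Polynomial.aeval_C, mul_eq_zero] at hR
    exact hR.resolve_left ((map_ne_zero_iff _ hinj).mpr hci)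
  haveI : P.LiesOver (P.comap (algebraMap A B)) := ⟨rfl⟩
  let p := P.comap (algebraMap A B)
  have halg : IsAlgebraic (A ⧸ p) (Ideal.Quotient.mk P s) := by
    refine ⟨R'.map (Ideal.Quotient.mk p), fun h => ?_, ?_⟩
    · have := congrArg (fun q => Polynomial.coeff q i) h
      simp only [Polynomial.coeff_map, hR'i, map_one, Polynomial.coeff_zero] at this
      exact one_ne_zero this
    · rw [← Ideal.Quotient.algebraMap_eq p, Polynomial.aeval_map_algebraMap,
        ← Ideal.Quotient.algebraMap_eq, Polynomial.aeval_algebraMap_apply, hR's, map_zero]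
  obtain ⟨N', hN', hdvd⟩ := halg.exists_nonzero_dvd
    (mem_nonZeroDivisors_of_ne_zero fun h => hs (Ideal.Quotient.eq_zero_iff_mem.mp h))
  obtain ⟨N, rfl⟩ := Ideal.Quotient.mk_surjective N'
  obtain ⟨c', hc'⟩ := hdvd
  obtain ⟨c, rfl⟩ := Ideal.Quotient.mk_surjective c'
  refine ⟨N, fun h => hN' (Ideal.Quotient.eq_zero_iff_mem.mpr h), ?_⟩
  have hx : algebraMap A B N - s * c ∈ P := by
    rw [← Ideal.Quotient.eq, map_mul, ← hc']
    rfl
  rcases ValuationRing.dvd_total s (algebraMap A B N - s * c) with h | h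
  · exact (dvd_add_left (dvd_mul_right s c).neg_right).mp (by rwa [← sub_eq_add_neg])
  · exact (hs (Ideal.mem_of_dvd P h hx)).elim

theorem etale_of_composite [Algebra.IsAlgebraic A B] (hinj : Function.Injective (algebraMap A B))
    (hA : (Localization.localRingHom (P.comap (algebraMap A B)) P (algebraMap A B) rfl).Etale)
    (hB : (Ideal.quotientMap P (algebraMap A B) (le_refl (P.comap (algebraMap A B)))).Etale) :
    Algebra.Etale A B := by
  classical
  set p := P.comap (algebraMap A B) with hp
  haveI : P.LiesOver p := ⟨rfl⟩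
  haveI : Algebra.Etale (A ⧸ p) (B ⧸ P) := by
    rw [← RingHom.etale_algebraMap]
    convert hB using 1
    all_goals first
      | rfl
      | exact Ideal.Quotient.ringHom_ext (RingHom.ext fun a => rfl)
  let f := Localization.localRingHom p P (algebraMap A B) rfl
  letI : Algebra (Localization.AtPrime p) (Localization.AtPrime P) := f.toAlgebra
  haveI : IsScalarTower A (Localization.AtPrime p) (Localization.AtPrime P) :=
    IsScalarTower.of_algebraMap_eq fun a => by
      rw [RingHom.algebraMap_toAlgebra, Localization.localRingHom_to_map,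
        ← IsScalarTower.algebraMap_apply A B (Localization.AtPrime P)]
  haveI : IsLocalHom (algebraMap (Localization.AtPrime p) (Localization.AtPrime P)) :=
    Localization.isLocalHom_localRingHom _ _ _ rfl
  haveI : Algebra.Etale (Localization.AtPrime p) (Localization.AtPrime P) := by
    rw [← RingHom.etale_algebraMap]; exact hA
  let BP := Localization.AtPrime P
  have hBP : Function.Injective (algebraMap B BP) := IsLocalization.injective BP P.primeCompl_le_nonZeroDivisors
  -- denominators can be taken in the base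
  have hnum : ∀ y : BP, ∃ (c : B) (M : A), M ∉ p ∧ y * algebraMap A BP M = algebraMap B BP c := by
    intro y
    obtain ⟨⟨b, s⟩, hy⟩ := IsLocalization.surj P.primeCompl y
    obtain ⟨N, hN, d, hd⟩ := exists_dvd_algebraMap P hinj s.2
    refine ⟨b * d, N, hN, ?_⟩
    rw [IsScalarTower.algebraMap_apply A B BP, hd, map_mul, map_mul, ← mul_assoc, hy]
  obtain ⟨SA, hSA⟩ := Algebra.FiniteType.out (R := Localization.AtPrime p) (A := BP)
  choose num den hden hnd using hnum
  haveI : Algebra.FiniteType (A ⧸ p) (B ⧸ P) := inferInstance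
  obtain ⟨SB, hSB⟩ := Algebra.FiniteType.out (R := A ⧸ p) (A := B ⧸ P)
  let T : Finset B := SA.image num ∪ SB.image (Function.surjInv (Ideal.Quotient.mk_surjective (I := P)))
  let C := Algebra.adjoin A (T : Set B)
  -- everything in the localization is a fraction with numerator in `C`
  have hC1 : ∀ y : BP, ∃ c ∈ C, ∃ M : A, M ∉ p ∧ y * algebraMap A BP M = algebraMap B BP c := by
    intro y
    have hy : y ∈ Algebra.adjoin (Localization.AtPrime p) (SA : Set BP) := hSA ▸ trivial
    induction hy using Algebra.adjoin_induction with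
    | mem z hz =>
      exact ⟨num z, Algebra.subset_adjoin (Finset.mem_coe.mpr (Finset.mem_union_left _
        (Finset.mem_image_of_mem _ hz))), den z, hden z, hnd z⟩
    | algebraMap r =>
      obtain ⟨⟨a, M⟩, hr⟩ := IsLocalization.surj p.primeCompl r
      refine ⟨algebraMap A B a, C.algebraMap_mem a, M, M.2, ?_⟩
      rw [IsScalarTower.algebraMap_apply A (Localization.AtPrime p) BP, ← map_mul, hr,
        ← IsScalarTower.algebraMap_apply, ← IsScalarTower.algebraMap_apply]
    | add u v _ _ hu hv =>
      obtain ⟨c, hc, M, hM, hcu⟩ := hu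
      obtain ⟨c', hc', M', hM', hcv⟩ := hv
      refine ⟨c * algebraMap A B M' + c' * algebraMap A B M,
        add_mem (mul_mem hc (C.algebraMap_mem _)) (mul_mem hc' (C.algebraMap_mem _)), M * M',
        fun h => ((inferInstance : p.IsPrime).mem_or_mem h).elim hM hM', ?_⟩
      simp only [map_mul, map_add, ← IsScalarTower.algebraMap_apply, ← hcu, ← hcv]
      ring
    | mul u v _ _ hu hv =>
      obtain ⟨c, hc, M, hM, hcu⟩ := hu
      obtain ⟨c', hc', M', hM', hcv⟩ := hv
      refine ⟨c * c', mul_mem hc hc', M * M',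
        fun h => ((inferInstance : p.IsPrime).mem_or_mem h).elim hM hM', ?_⟩
      simp only [map_mul, ← hcu, ← hcv]
      ring
  -- the maximal ideal upstairs is generated from below
  have hmax : (p.map (algebraMap A BP)) = maximalIdeal BP := by
    rw [IsScalarTower.algebraMap_eq A (Localization.AtPrime p) BP, ← Ideal.map_map,
      Localization.AtPrime.map_eq_maximalIdeal, Algebra.FormallyUnramified.map_maximalIdeal]
  have hP : ∀ x ∈ P, ∃ e ∈ p, ∃ c ∈ C, x = algebraMap A B e * c := by
    intro x hx
    have hx' : algebraMap B BP x ∈ p.map (algebraMap A BP) := by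
      rw [hmax, ← Localization.AtPrime.map_eq_maximalIdeal]
      exact Ideal.mem_map_of_mem _ hx
    have key : ∀ z ∈ p.map (algebraMap A BP), ∃ π ∈ p, ∃ y : BP, z = algebraMap A BP π * y := by
      intro z hz
      induction hz using Submodule.span_induction with
      | mem z hz => obtain ⟨π, hπ, rfl⟩ := hz; exact ⟨π, hπ, 1, (mul_one _).symm⟩
      | zero => exact ⟨0, p.zero_mem, 0, by rw [mul_zero]⟩
      | add u v _ _ hu hv =>
        obtain ⟨π, hπ, y, rfl⟩ := hu
        obtain ⟨π', hπ', y', rfl⟩ := hv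
        rcases ValuationRing.dvd_total π π' with ⟨e, rfl⟩ | ⟨e, rfl⟩
        · exact ⟨π, hπ, y + algebraMap A BP e * y', by rw [map_mul]; ring⟩
        · exact ⟨π', hπ', y' + algebraMap A BP e * y, by rw [map_mul]; ring⟩
      | smul r u _ hu =>
        obtain ⟨π, hπ, y, rfl⟩ := hu
        exact ⟨π, hπ, r * y, by rw [smul_eq_mul, mul_left_comm]⟩
    obtain ⟨π, hπ, y, hy⟩ := key _ hx'
    obtain ⟨c, hc, M, hM, hcy⟩ := hC1 y
    obtain ⟨e, rfl⟩ : M ∣ π := by
      rcases ValuationRing.dvd_total M π with h | h
      · exact h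
      · exact (hM (Ideal.mem_of_dvd p h hπ)).elim
    refine ⟨e, ((inferInstance : p.IsPrime).mem_or_mem hπ).resolve_left hM, c, hc, hBP ?_⟩
    rw [hy, map_mul, map_mul, ← IsScalarTower.algebraMap_apply, ← hcy]
    ring
  have htop : C = ⊤ := by
    rw [eq_top_iff]
    intro b _
    have hb : Ideal.Quotient.mk P b ∈ Algebra.adjoin (A ⧸ p) (SB : Set (B ⧸ P)) := hSB ▸ trivial
    obtain ⟨c, hc, hbc⟩ : ∃ c ∈ C, Ideal.Quotient.mk P c = Ideal.Quotient.mk P b := by
      generalize Ideal.Quotient.mk P b = z at hb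
      induction hb using Algebra.adjoin_induction with
      | mem z hz =>
        exact ⟨Function.surjInv Ideal.Quotient.mk_surjective z, Algebra.subset_adjoin (Finset.mem_coe.mpr
          (Finset.mem_union_right _ (Finset.mem_image_of_mem _ hz))), Function.surjInv_eq _ z⟩
      | algebraMap r =>
        obtain ⟨a, rfl⟩ := Ideal.Quotient.mk_surjective r
        exact ⟨algebraMap A B a, C.algebraMap_mem a, rfl⟩
      | add u v _ _ hu hv =>
        obtain ⟨c, hc, rfl⟩ := hu
        obtain ⟨c', hc', rfl⟩ := hv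
        exact ⟨c + c', add_mem hc hc', map_add _ _ _⟩
      | mul u v _ _ hu hv =>
        obtain ⟨c, hc, rfl⟩ := hu
        obtain ⟨c', hc', rfl⟩ := hv
        exact ⟨c * c', mul_mem hc hc', map_mul _ _ _⟩
    obtain ⟨e, -, c', hc', hx⟩ := hP (b - c) (Ideal.Quotient.eq.mp hbc.symm)
    rw [← sub_add_cancel b c, hx]
    exact add_mem (mul_mem (C.algebraMap_mem e) hc') hc
  haveI : Algebra.FiniteType A B := ⟨⟨T, htop⟩⟩
  haveI : Module.Flat A B := by
    rw [Module.Flat.flat_iff_torsion_eq_bot_of_isBezout, eq_bot_iff]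
    rintro x ⟨⟨a, ha⟩, hax⟩
    rw [Submonoid.mk_smul, Algebra.smul_def, mul_eq_zero] at hax
    exact hax.resolve_left ((map_ne_zero_iff _ hinj).mpr (nonZeroDivisors.ne_zero ha))
  haveI := FlatMisc.ValuationFP.algebra_finitePresentation (R := A) (A := B)
  -- the differentials vanish
  haveI : Algebra.FormallyUnramified A B := by
    refine ⟨?_⟩
    haveI : Algebra.FormallyUnramified A (B ⧸ P) := by
      haveI : Algebra.FormallyUnramified A (A ⧸ p) :=
        Algebra.FormallyUnramified.of_surjective (Algebra.ofId A (A ⧸ p)) Ideal.Quotient.mk_surjective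
      exact Algebra.FormallyUnramified.comp A (A ⧸ p) (B ⧸ P)
    have hzero : ∀ z : (B ⧸ P) ⊗[B] Ω[B⁄A], z = 0 := by
      intro z
      obtain ⟨c, rfl⟩ := (KaehlerDifferential.exact_kerCotangentToTensor_mapBaseChange A B (B ⧸ P)
        Ideal.Quotient.mk_surjective z).mp (Subsingleton.elim _ _)
      obtain ⟨⟨x, hx⟩, rfl⟩ := Ideal.toCotangent_surjective _ c
      have hx0 : x ∈ P := by rwa [RingHom.mem_ker, Ideal.Quotient.algebraMap_eq, Ideal.Quotient.eq_zero_iff_mem] at hx
      obtain ⟨e, he, c, -, rfl⟩ := hP x hx0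
      rw [KaehlerDifferential.kerCotangentToTensor_toCotangent]
      show (1 : B ⧸ P) ⊗ₜ[B] KaehlerDifferential.D A B (algebraMap A B e * c) = 0
      rw [← Algebra.smul_def, Derivation.map_smul, ← algebraMap_smul B e, ← TensorProduct.smul_tmul,
        ← Algebra.algebraMap_eq_smul_one, Ideal.Quotient.algebraMap_eq, Ideal.Quotient.eq_zero_iff_mem.mpr (show algebraMap A B e ∈ P from he),
        TensorProduct.zero_tmul]
    haveI : Subsingleton ((B ⧸ P) ⊗[B] Ω[B⁄A]) := subsingleton_of_forall_eq 0 hzero
    have : Subsingleton (Ω[B⁄A] ⧸ (P • ⊤ : Submodule B (Ω[B⁄A]))) :=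
      (TensorProduct.quotTensorEquivQuotSMul (Ω[B⁄A]) P).symm.toEquiv.subsingleton
    have hle : (⊤ : Submodule B (Ω[B⁄A])) ≤ P • ⊤ :=
      top_le_iff.mpr (Submodule.Quotient.subsingleton_iff.mp this)
    have hbot := Submodule.eq_bot_of_le_smul_of_le_jacobson_bot P (⊤ : Submodule B (Ω[B⁄A])) Module.Finite.fg_top
      hle ((IsLocalRing.le_maximalIdeal (Ideal.IsPrime.ne_top ‹_›)).trans (maximalIdeal_le_jacobson _))
    exact subsingleton_of_forall_eq 0 fun z => (Submodule.eq_bot_iff _).mp hbot z trivial
  exact Algebra.Etale.of_formallyUnramified_of_flat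

end Groth.Agent.ValCompose
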